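import Groth.Agent.PolLawBCLib.Gamma
import Mathlib

/-!
# Base change of universal normic pairs
-/

set_option autoImplicit false
set_option linter.style.haveILetI false

universe u

noncomputable section

open scoped TensorProduct

namespace Groth.Agent.PolLawBCLib

variable {R Q : Type u} [CommRing R] [CommRing Q] [Algebra R Q]

section bcS

variable {X Y : Type u} [AddCommGroup X] [Module R X] [AddCommGroup Y] [Module R Y] [Module Q Y]
  [IsScalarTower R Q Y] (g : X →ₗ[R] Y)

/-- `bcAlong` over semiring test algebras, linear over them. -/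
def bcS (P : Type u) [CommSemiring P] [Algebra R P] [Algebra Q P] [IsScalarTower R Q P] :
    P ⊗[R] X →ₗ[P] P ⊗[Q] Y :=
  (TensorProduct.AlgebraTensorModule.map LinearMap.id (g.liftBaseChange Q)).comp
    (TensorProduct.AlgebraTensorModule.cancelBaseChange R Q P P X).symm.toLinearMap

@[simp]
theorem bcS_tmul (P : Type u) [CommSemiring P] [Algebra R P] [Algebra Q P] [IsScalarTower R Q P] (p : P) (x : X) :
    bcS g P (p ⊗ₜ[R] x) = p ⊗ₜ[Q] g x := by simp [bcS]

theorem bcS_eq (P : Type u) [CommRing P] [Algebra R P] [Algebra Q P] [IsScalarTower R Q P] (z : P ⊗[R] X) :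
    bcS (Q := Q) g P z = PolLaw.bcAlong g P z := by
  induction z using TensorProduct.induction_on with
  | zero => simp
  | tmul p x => simp [bcAlong_tmul]
  | add z w hz hw => simp only [map_add, hz, hw]

theorem bcS_natural {P P' : Type u} [CommSemiring P] [Algebra R P] [Algebra Q P] [IsScalarTower R Q P]
    [CommSemiring P'] [Algebra R P'] [Algebra Q P'] [IsScalarTower R Q P'] (φ : P →ₐ[Q] P') (z : P ⊗[R] X) :
    φ.toLinearMap.rTensor Y (bcS g P z) = bcS g P' ((φ.restrictScalars R).toLinearMap.rTensor X z) := by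
  induction z using TensorProduct.induction_on with
  | zero => simp
  | tmul p x => simp
  | add z w hz hw => simp only [map_add, hz, hw]

theorem bcS_bijective (hg : IsBaseChange Q g) (P : Type u) [CommSemiring P] [Algebra R P] [Algebra Q P]
    [IsScalarTower R Q P] : Function.Bijective (bcS (Q := Q) g P) := by
  have e : g.liftBaseChange Q = hg.equiv.toLinearMap := by
    ext x
    simp [hg.equiv_tmul]
  simp only [bcS, e, LinearMap.coe_comp]
  exact (TensorProduct.AlgebraTensorModule.congr (LinearEquiv.refl P P) hg.equiv).bijective.comp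
    (TensorProduct.AlgebraTensorModule.cancelBaseChange R Q P P X).symm.bijective

end bcS

section act

variable {R' Q' : Type u} [CommRing R'] [Algebra R R'] [CommRing Q'] [Algebra R Q'] [Algebra Q Q']
  [Algebra R' Q'] [IsScalarTower R Q Q'] [IsScalarTower R R' Q']
  {M' M'' : Type u} [AddCommGroup M'] [Module R M'] [Module R' M'] [IsScalarTower R R' M']
  [AddCommGroup M''] [Module R M''] [Module R' M''] [Module Q M''] [Module Q' M'']
  [IsScalarTower R R' M''] [IsScalarTower R Q M''] [IsScalarTower R' Q' M''] [IsScalarTower Q Q' M'']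

theorem bcS_act (f : M' →ₗ[R'] M'') (P : Type u) [CommRing P] [Algebra R P] [Algebra Q P] [IsScalarTower R Q P]
    (x : P ⊗[R] R') (m : P ⊗[R] M') :
    bcS (f.restrictScalars R) P (PolLaw.actEnd M' P x m) =
      PolLaw.actEnd M'' P (bcHom R Q R' Q' P x) (bcS (f.restrictScalars R) P m) := by
  induction x using TensorProduct.induction_on with
  | zero => simp
  | tmul p b =>
    induction m using TensorProduct.induction_on with
    | zero => simp
    | tmul q m => simp [bcHom]
    | add z w hz hw => simp only [map_add, hz, hw]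
  | add x y hx hy => simp only [map_add, LinearMap.add_apply, hx, hy]

theorem norm_map {S S' : Type u} [CommRing S] [Algebra R S] [CommRing S'] [Algebra R S'] [Module.Free R R']
    [Module.Finite R R'] (φ : S →ₐ[R] S') (x : S ⊗[R] R') :
    Algebra.norm S' (Algebra.TensorProduct.map φ (AlgHom.id R R') x) = φ (Algebra.norm S x) := by
  rw [← PolLaw.detAct_self, ← PolLaw.detAct_self, PolLaw.detAct_map]

theorem isBaseChange_restrict [Algebra.IsPushout R R' Q Q'] (f : M' →ₗ[R'] M'') (hf : IsBaseChange Q' f) :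
    IsBaseChange Q (f.restrictScalars R) := by
  haveI : Algebra.IsPushout R Q R' Q' := Algebra.IsPushout.symm inferInstance
  refine IsBaseChange.of_equiv ((Algebra.IsPushout.cancelBaseChange R Q R' Q' M').symm.trans (hf.equiv.restrictScalars Q))
    fun x => ?_
  have : (Algebra.IsPushout.cancelBaseChange R Q R' Q' M').symm ((1 : Q) ⊗ₜ[R] x) = (1 : Q') ⊗ₜ[R'] x :=
    (LinearEquiv.symm_apply_eq _).2 (Algebra.IsPushout.cancelBaseChange_tmul R Q R' Q' M' x).symm
  simp [this, hf.equiv_tmul]

end act

section descend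

variable {N'' : Type u} [AddCommGroup N''] [Module R N''] [Module Q N''] [IsScalarTower R Q N'']

/-- `(Q ⊗_R S) ⊗_Q N'' → S ⊗_R N''`. -/
def desc (S : Type u) [CommSemiring S] [Algebra R S] : (Q ⊗[R] S) ⊗[Q] N'' ≃ₗ[R] S ⊗[R] N'' :=
  (TensorProduct.comm Q (Q ⊗[R] S) N'').restrictScalars R ≪≫ₗ
    (TensorProduct.AlgebraTensorModule.cancelBaseChange R Q Q N'' S).restrictScalars R ≪≫ₗ TensorProduct.comm R N'' S

theorem desc_tmul (S : Type u) [CommSemiring S] [Algebra R S] (q : Q) (s : S) (n : N'') :
    desc S ((q ⊗ₜ[R] s) ⊗ₜ[Q] n) = s ⊗ₜ[R] (q • n) := by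
  simp [desc]

theorem desc_natural {S S' : Type u} [CommSemiring S] [Algebra R S] [CommSemiring S'] [Algebra R S']
    (φ : S →ₐ[R] S') (w : (Q ⊗[R] S) ⊗[Q] N'') :
    φ.toLinearMap.rTensor N'' (desc S w) =
      desc S' ((Algebra.TensorProduct.map (AlgHom.id Q Q) φ).toLinearMap.rTensor N'' w) := by
  induction w using TensorProduct.induction_on with
  | zero => simp
  | tmul p n =>
    induction p using TensorProduct.induction_on with
    | zero => simp [TensorProduct.zero_tmul]
    | tmul q s => simp [desc_tmul]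
    | add z w hz hw => simp only [TensorProduct.add_tmul, map_add, hz, hw]
  | add z w hz hw => simp only [map_add, hz, hw]

theorem desc_smul (S : Type u) [CommRing S] [Algebra R S] (a : S) (w : (Q ⊗[R] S) ⊗[Q] N'') :
    desc S (((1 : Q) ⊗ₜ[R] a) • w) = a • desc S w := by
  induction w using TensorProduct.induction_on with
  | zero => simp
  | tmul p n =>
    induction p using TensorProduct.induction_on with
    | zero => simp [TensorProduct.zero_tmul]
    | tmul q s => simp [TensorProduct.smul_tmul', desc_tmul, Algebra.TensorProduct.tmul_mul_tmul]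
    | add z w hz hw => simp only [TensorProduct.add_tmul, smul_add, map_add, hz, hw]
  | add z w hz hw => simp only [smul_add, map_add, hz, hw]

variable {R' Q' : Type u} [CommRing R'] [Algebra R R'] [CommRing Q'] [Algebra R Q'] [Algebra Q Q']
  [Algebra R' Q'] [IsScalarTower R Q Q'] [IsScalarTower R R' Q']
  {M' M'' : Type u} [AddCommGroup M'] [Module R M'] [Module R' M'] [IsScalarTower R R' M']
  [AddCommGroup M''] [Module R M''] [Module R' M''] [Module Q M''] [Module Q' M'']
  [IsScalarTower R R' M''] [IsScalarTower R Q M''] [IsScalarTower R' Q' M''] [IsScalarTower Q Q' M'']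

/-- The law over `R` obtained from a law over `Q` on the base change. -/
def pullLaw (f : M' →ₗ[R] M'') (ν'' : M'' →ₚₗ[Q] N'') : M' →ₚₗ[R] N'' where
  toFun' S _ _ := fun x => desc S (ν''.toFun' (Q ⊗[R] S)
    (bcS f (Q ⊗[R] S) ((Algebra.TensorProduct.includeRight : S →ₐ[R] Q ⊗[R] S).toLinearMap.rTensor M' x)))
  isCompat' {S} _ _ {S'} _ _ φ := by
    funext x
    simp only [Function.comp_apply]
    rw [desc_natural]
    congr 1
    have h := congrFun (ν''.isCompat' (Algebra.TensorProduct.map (AlgHom.id Q Q) φ))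
    simp only [Function.comp_apply] at h
    rw [h, bcS_natural]
    congr 2
    rw [← LinearMap.comp_apply, ← LinearMap.rTensor_comp, ← LinearMap.comp_apply, ← LinearMap.rTensor_comp]
    congr 2

theorem isNormic_pullLaw [Module.Free R R'] [Module.Finite R R'] [Algebra.IsPushout R R' Q Q']
    (f : M' →ₗ[R'] M'') (ν'' : M'' →ₚₗ[Q] N'') (hν'' : PolLaw.IsNormic Q' ν'') :
    PolLaw.IsNormic R' (pullLaw (f.restrictScalars R) ν'') := by
  intro S _ _ x m
  show desc S _ = _ • desc S _
  rw [PolLaw.rTensor_actEnd, bcS_act (Q' := Q'), hν'', bcHom_eq, norm_bcAlong, norm_map]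
  exact desc_smul S _ _

end descend

section ext

variable {N : Type u} [AddCommGroup N] [Module R N]
  {R' Q' : Type u} [CommRing R'] [Algebra R R'] [CommRing Q'] [Algebra R Q'] [Algebra Q Q']
  [Algebra R' Q'] [IsScalarTower R Q Q'] [IsScalarTower R R' Q']
  {M' M'' : Type u} [AddCommGroup M'] [Module R M'] [Module R' M'] [IsScalarTower R R' M']
  [AddCommGroup M''] [Module R M''] [Module R' M''] [Module Q M''] [Module Q' M'']
  [IsScalarTower R R' M''] [IsScalarTower R Q M''] [IsScalarTower R' Q' M''] [IsScalarTower Q Q' M'']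

/-- The base change of a law over `R`. -/
def extLaw (f : M' →ₗ[R] M'') (hf : IsBaseChange Q f) (ν : M' →ₚₗ[R] N) : M'' →ₚₗ[Q] Q ⊗[R] N where
  toFun' P _ _ := fun y =>
    letI : Algebra R P := ((algebraMap Q P).comp (algebraMap R Q)).toAlgebra
    haveI : IsScalarTower R Q P := IsScalarTower.of_algebraMap_eq fun _ => rfl
    bcS (TensorProduct.mk R Q N 1) P (ν.toFun' P ((LinearEquiv.ofBijective _ (bcS_bijective f hf P)).symm y))
  isCompat' {P} _ _ {P'} _ _ φ := by
    letI : Algebra R P := ((algebraMap Q P).comp (algebraMap R Q)).toAlgebra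
    haveI : IsScalarTower R Q P := IsScalarTower.of_algebraMap_eq fun _ => rfl
    letI : Algebra R P' := ((algebraMap Q P').comp (algebraMap R Q)).toAlgebra
    haveI : IsScalarTower R Q P' := IsScalarTower.of_algebraMap_eq fun _ => rfl
    funext y
    simp only [Function.comp_apply]
    have h := congrFun (ν.isCompat' (φ.restrictScalars R))
    simp only [Function.comp_apply] at h
    rw [bcS_natural, h]
    congr 2
    obtain ⟨z, rfl⟩ := (bcS_bijective f hf P).2 y
    rw [bcS_natural]
    simp [LinearEquiv.ofBijective_symm_apply_apply]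

theorem extLaw_apply (f : M' →ₗ[R] M'') (hf : IsBaseChange Q f) (ν : M' →ₚₗ[R] N) (P : Type u) [CommSemiring P]
    [iR : Algebra R P] [Algebra Q P] [IsScalarTower R Q P] (z : P ⊗[R] M') :
    (extLaw f hf ν).toFun' P (bcS f P z) = bcS (TensorProduct.mk R Q N 1) P (ν.toFun' P z) := by
  have e : iR = ((algebraMap Q P).comp (algebraMap R Q)).toAlgebra :=
    Algebra.algebra_ext _ _ fun r => IsScalarTower.algebraMap_apply R Q P r
  subst e
  letI : Algebra R P := ((algebraMap Q P).comp (algebraMap R Q)).toAlgebra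
  show bcS _ P (ν.toFun' P ((LinearEquiv.ofBijective _ (bcS_bijective f hf P)).symm (bcS f P z))) = _
  rw [LinearEquiv.ofBijective_symm_apply_apply]

theorem isNormic_extLaw [Module.Free R R'] [Module.Finite R R'] [Algebra.IsPushout R R' Q Q']
    (f : M' →ₗ[R'] M'') (hf : IsBaseChange Q (f.restrictScalars R)) (ν : M' →ₚₗ[R] N) (hν : PolLaw.IsNormic R' ν) :
    PolLaw.IsNormic Q' (extLaw (f.restrictScalars R) hf ν) := by
  intro P _ _ x m
  letI : Algebra R P := ((algebraMap Q P).comp (algebraMap R Q)).toAlgebra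
  haveI : IsScalarTower R Q P := IsScalarTower.of_algebraMap_eq fun _ => rfl
  have hb : IsBaseChange Q (IsScalarTower.toAlgHom R R' Q').toLinearMap :=
    (Algebra.IsPushout.symm ‹Algebra.IsPushout R R' Q Q'›).out
  obtain ⟨x, rfl⟩ := (bcAlong_bijective _ hb P).2 x
  obtain ⟨m, rfl⟩ := (bcS_bijective _ hf P).2 m
  rw [norm_bcAlong, ← bcHom_eq, ← bcS_act, extLaw_apply, extLaw_apply, hν, LinearMap.map_smul]

end ext

theorem norm_baseChange {R' Q' : Type u} [CommRing R'] [Algebra R R'] [CommRing Q'] [Algebra R Q']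
    [Algebra Q Q'] [Algebra R' Q'] [IsScalarTower R Q Q'] [IsScalarTower R R' Q'] [Algebra.IsPushout R R' Q Q']
    [Module.Free R R'] [Module.Finite R R']
    {M' : Type u} [AddCommGroup M'] [Module R M'] [Module R' M'] [IsScalarTower R R' M']
    {M'' : Type u} [AddCommGroup M''] [Module R M''] [Module R' M''] [Module Q M''] [Module Q' M'']
    [IsScalarTower R R' M''] [IsScalarTower R Q M''] [IsScalarTower R' Q' M''] [IsScalarTower Q Q' M'']
    (f : M' →ₗ[R'] M'') (hf : IsBaseChange Q' f)
    {N : Type u} [AddCommGroup N] [Module R N] (ν : M' →ₚₗ[R] N) (hν : PolLaw.IsUnivNormic R' ν)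
    {N'' : Type u} [AddCommGroup N''] [Module R N''] [Module Q N''] [IsScalarTower R Q N'']
    (ν'' : M'' →ₚₗ[Q] N'') (hν'' : PolLaw.IsUnivNormic Q' ν'') :
    ∃ u : N →ₗ[R] N'',
      (∀ (P : Type u) [CommRing P] [Algebra R P] [Algebra Q P] [IsScalarTower R Q P] (m : P ⊗[R] M'),
          ν''.toFun' P (PolLaw.bcAlong (f.restrictScalars R) P m) = PolLaw.bcAlong u P (ν.toFun' P m)) ∧
      IsBaseChange Q u := by
  have hfR : IsBaseChange Q (f.restrictScalars R) := isBaseChange_restrict f hf
  obtain ⟨u, hu, -⟩ := hν.2 N'' _ (isNormic_pullLaw (Q' := Q') f ν'' hν''.1)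
  have hdesc : ∀ (S : Type u) [CommSemiring S] [Algebra R S] (z : S ⊗[R] M'),
      u.lTensor S (ν.toFun' S z) = desc S (ν''.toFun' (Q ⊗[R] S) (bcS (f.restrictScalars R) (Q ⊗[R] S)
        ((Algebra.TensorProduct.includeRight : S →ₐ[R] Q ⊗[R] S).toLinearMap.rTensor M' z))) :=
    fun S _ _ z => congrArg (fun F : M' →ₚₗ[R] N'' => F.toFun' S z) hu
  have hcompat : ∀ (P : Type u) [CommSemiring P] [Algebra R P] [Algebra Q P] [IsScalarTower R Q P] (m : P ⊗[R] M'),
      ν''.toFun' P (bcS (f.restrictScalars R) P m) = bcS u P (ν.toFun' P m) := by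
    intro P _ _ _ _ m
    let μ : Q ⊗[R] P →ₐ[Q] P := Algebra.TensorProduct.lift (Algebra.ofId Q P) (AlgHom.id R P) fun _ _ => Commute.all _ _
    have hμ : ∀ w : P ⊗[R] N, bcS u P w =
        μ.toLinearMap.rTensor N'' ((desc P).symm (u.lTensor P w)) := by
      intro w
      induction w using TensorProduct.induction_on with
      | zero => simp
      | tmul p n =>
        have : (desc (Q := Q) (N'' := N'') P).symm (p ⊗ₜ[R] u n) = ((1 : Q) ⊗ₜ[R] p) ⊗ₜ[Q] u n :=
          (LinearEquiv.symm_apply_eq _).2 (by simp [desc_tmul])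
        simp [this, μ]
      | add z w hz hw => simp only [map_add, hz, hw]
    rw [hμ, hdesc, LinearEquiv.symm_apply_apply]
    have h := congrFun (ν''.isCompat' μ)
    simp only [Function.comp_apply] at h
    rw [h, bcS_natural]
    congr 2
    rw [← LinearMap.comp_apply, ← LinearMap.rTensor_comp]
    conv_lhs => rw [← LinearMap.id_apply (R := R) m, ← LinearMap.rTensor_id]
    congr 2
    ext p
    simp [μ]
  refine ⟨u, fun P _ _ _ _ m => by rw [← bcS_eq, ← bcS_eq]; exact hcompat P m, ?_⟩
  obtain ⟨ψ, hψ, -⟩ := hν''.2 _ _ (isNormic_extLaw f hfR ν hν.1)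
  let ū : Q ⊗[R] N →ₗ[Q] N'' := u.liftBaseChange Q
  have hψ' : ∀ (P : Type u) [CommSemiring P] [Algebra Q P] (y : P ⊗[Q] M''),
      ψ.lTensor P (ν''.toFun' P y) = (extLaw (f.restrictScalars R) hfR ν).toFun' P y :=
    fun P _ _ y => congrArg (fun F : M'' →ₚₗ[Q] Q ⊗[R] N => F.toFun' P y) hψ
  have hright : ū.comp ψ = LinearMap.id := by
    obtain ⟨φ, -, huniq⟩ := hν''.2 N'' ν'' hν''.1
    refine (huniq _ ?_).trans (huniq _ ?_).symm
    · ext P _ _ y
      letI : Algebra R P := ((algebraMap Q P).comp (algebraMap R Q)).toAlgebra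
      haveI : IsScalarTower R Q P := IsScalarTower.of_algebraMap_eq fun _ => rfl
      show (ū.comp ψ).lTensor P (ν''.toFun' P y) = ν''.toFun' P y
      obtain ⟨z, rfl⟩ := (bcS_bijective _ hfR P).2 y
      rw [LinearMap.lTensor_comp_apply, hψ', extLaw_apply, hcompat]
      generalize ν.toFun' P z = w
      induction w using TensorProduct.induction_on with
      | zero => simp
      | tmul p n => simp [ū]
      | add z w hz hw => simp only [map_add, hz, hw]
    · ext P _ _ y
      show LinearMap.id.lTensor P (ν''.toFun' P y) = ν''.toFun' P y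
      rw [LinearMap.lTensor_id, LinearMap.id_apply]
  have hN : (ψ.restrictScalars R).comp u = TensorProduct.mk R Q N 1 := by
    let P1 : N →ₗ[R] Q ⊗[R] N := TensorProduct.mk R Q N 1
    have key : ∀ (S : Type u) [CommSemiring S] [Algebra R S] (z : S ⊗[R] M'),
        ((ψ.restrictScalars R).comp u).lTensor S (ν.toFun' S z) = P1.lTensor S (ν.toFun' S z) := by
      intro S _ _ z
      have hd : ∀ w, (ψ.restrictScalars R).lTensor S (desc S w) = desc S (ψ.lTensor (Q ⊗[R] S) w) := by
        intro w
        induction w using TensorProduct.induction_on with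
        | zero => simp
        | tmul p n =>
          induction p using TensorProduct.induction_on with
          | zero => simp [TensorProduct.zero_tmul]
          | tmul q s => simp [desc_tmul]
          | add z w hz hw => simp only [TensorProduct.add_tmul, map_add, hz, hw]
        | add z w hz hw => simp only [map_add, hz, hw]
      rw [LinearMap.lTensor_comp_apply, hdesc, hd, hψ', extLaw_apply]
      have hn := congrFun (ν.isCompat' (Algebra.TensorProduct.includeRight : S →ₐ[R] Q ⊗[R] S)) z
      simp only [Function.comp_apply] at hn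
      rw [← hn]
      generalize ν.toFun' S z = w
      induction w using TensorProduct.induction_on with
      | zero => simp
      | tmul s n => simp [desc_tmul, P1]
      | add z w hz hw => simp only [map_add, hz, hw]
    have hμn : PolLaw.IsNormic R' (PolLaw.postcomp P1 ν) := fun S _ _ x m => by
      show P1.lTensor S _ = _ • P1.lTensor S _
      rw [hν.1]
      exact (P1.baseChange S).map_smul _ _
    obtain ⟨φ, -, huniq⟩ := hν.2 _ _ hμn
    refine (huniq _ ?_).trans (huniq _ rfl).symm
    ext S _ _ z
    exact key S z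
  have hleft : ψ.comp ū = LinearMap.id :=
    TensorProduct.AlgebraTensorModule.ext fun q n => by
      have : ψ (u n) = (1 : Q) ⊗ₜ[R] n := LinearMap.congr_fun hN n
      simp [ū, this, TensorProduct.smul_tmul']
  exact IsBaseChange.of_equiv (LinearEquiv.ofLinear ū ψ hright hleft) fun x => by simp [ū]

end Groth.Agent.PolLawBCLib
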