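import Groth.Prelude.Def_W4c5normfunctorschNorm
import Mathlib

/-!
# Base change of the norm map out of divided powers
-/

set_option autoImplicit false
set_option linter.style.haveILetI false

universe u

noncomputable section

open scoped TensorProduct

namespace Groth.Agent.PolLawBCLib

variable {R Q : Type u} [CommRing R] [CommRing Q] [Algebra R Q]

theorem bcAlong_tmul {X Y : Type u} [AddCommGroup X] [Module R X] [AddCommGroup Y] [Module R Y] [Module Q Y]
    [IsScalarTower R Q Y] (g : X →ₗ[R] Y) (P : Type u) [CommRing P] [Algebra R P] [Algebra Q P]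
    [IsScalarTower R Q P] (p : P) (x : X) : PolLaw.bcAlong (Q := Q) g P (p ⊗ₜ[R] x) = p ⊗ₜ[Q] g x := by
  simp [PolLaw.bcAlong]

theorem bcAlong_bijective {X Y : Type u} [AddCommGroup X] [Module R X] [AddCommGroup Y] [Module R Y] [Module Q Y]
    [IsScalarTower R Q Y] (g : X →ₗ[R] Y) (hg : IsBaseChange Q g) (P : Type u) [CommRing P] [Algebra R P]
    [Algebra Q P] [IsScalarTower R Q P] : Function.Bijective (PolLaw.bcAlong (Q := Q) g P) := by
  have e : g.liftBaseChange Q = hg.equiv.toLinearMap := by
    ext x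
    simp [hg.equiv_tmul]
  simp only [PolLaw.bcAlong, e, LinearMap.coe_comp]
  exact (LinearEquiv.lTensor P hg.equiv).bijective.comp
    (TensorProduct.AlgebraTensorModule.cancelBaseChange R Q P P X).symm.bijective

section

variable {R' Q' : Type u} [CommRing R'] [Algebra R R'] [CommRing Q'] [Algebra R Q'] [Algebra Q Q']
  [Algebra R' Q'] [IsScalarTower R Q Q'] [IsScalarTower R R' Q']
  (P : Type u) [CommRing P] [Algebra R P] [Algebra Q P] [IsScalarTower R Q P]

variable (R Q R' Q') in
/-- The base change comparison of algebras. -/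
def bcHom : P ⊗[R] R' →ₐ[P] P ⊗[Q] Q' :=
  Algebra.TensorProduct.lift Algebra.TensorProduct.includeLeft
    (((Algebra.TensorProduct.includeRight : Q' →ₐ[Q] P ⊗[Q] Q').restrictScalars R).comp
      (IsScalarTower.toAlgHom R R' Q')) fun _ _ => Commute.all _ _

theorem bcHom_eq (z : P ⊗[R] R') :
    bcHom R Q R' Q' P z = PolLaw.bcAlong (IsScalarTower.toAlgHom R R' Q').toLinearMap P z := by
  induction z using TensorProduct.induction_on with
  | zero => simp
  | tmul p x => simp [bcHom, bcAlong_tmul]
  | add z w hz hw => simp only [map_add, hz, hw]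

theorem norm_bcAlong [Algebra.IsPushout R R' Q Q'] (z : P ⊗[R] R') :
    Algebra.norm P (PolLaw.bcAlong (IsScalarTower.toAlgHom R R' Q').toLinearMap P z : P ⊗[Q] Q') = Algebra.norm P z := by
  have hb : IsBaseChange Q (IsScalarTower.toAlgHom R R' Q').toLinearMap :=
    (Algebra.IsPushout.symm ‹Algebra.IsPushout R R' Q Q'›).out
  have hbij : Function.Bijective (bcHom R Q R' Q' P) := by
    convert bcAlong_bijective _ hb P using 1
    exact funext (bcHom_eq P)
  rw [← bcHom_eq]
  exact Algebra.norm_eq_of_algEquiv (AlgEquiv.ofBijective _ hbij) z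

end

/-- Multiply the left factor by an algebra valued in `Q`. -/
def mulThrough {C : Type u} [CommRing C] [Algebra R C] (f : C →ₐ[R] Q) (P : Type u) [CommRing P] [Algebra R P]
    [Algebra Q P] [IsScalarTower R Q P] : P ⊗[R] C →ₐ[R] P :=
  Algebra.TensorProduct.lift (AlgHom.id R P) ((IsScalarTower.toAlgHom R Q P).comp f) fun _ _ => Commute.all _ _

theorem norm_compat {R' Q' : Type u} [CommRing R'] [Algebra R R'] [CommRing Q'] [Algebra R Q'] [Algebra Q Q']
    [Algebra R' Q'] [IsScalarTower R Q Q'] [IsScalarTower R R' Q'] [Algebra.IsPushout R R' Q Q']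
    [Module.Free R R'] [Module.Finite R R'] [Module.Free Q Q'] [Module.Finite Q Q']
    (d : ℕ) (hd : Module.finrank R R' = d) (hd' : Module.finrank Q Q' = d)
    {C : Type u} [CommRing C] [Algebra R C] (γ : PolLaw.MulLaw R R' C d) (hγ : PolLaw.IsGammaD γ)
    (π : C →ₐ[R] R) (hπ : PolLaw.MulLaw.postcomp π γ = PolLaw.normLaw R R' d hd)
    {C' : Type u} [CommRing C'] [Algebra R C'] [Algebra Q C'] [IsScalarTower R Q C']
    (γ' : PolLaw.MulLaw Q Q' C' d)
    (π' : C' →ₐ[Q] Q) (hπ' : PolLaw.MulLaw.postcomp π' γ' = PolLaw.normLaw Q Q' d hd')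
    (θ : C →ₐ[R] C')
    (hθ : ∀ (P : Type u) [CommRing P] [Algebra R P] [Algebra Q P] [IsScalarTower R Q P] (z : P ⊗[R] R'),
      γ'.law.toFun' P (PolLaw.bcAlong (IsScalarTower.toAlgHom R R' Q').toLinearMap P z) =
        PolLaw.bcAlong θ.toLinearMap P (γ.law.toFun' P z)) :
    ∀ c : C, π' (θ c) = algebraMap R Q (π c) := by
  let f1 : C →ₐ[R] Q := (π'.restrictScalars R).comp θ
  let f2 : C →ₐ[R] Q := (Algebra.ofId R Q).comp π
  have key : ∀ (P : Type u) [CommRing P] [Algebra R P] [Algebra Q P] [IsScalarTower R Q P] (z : P ⊗[R] R'),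
      mulThrough f1 P (γ.law.toFun' P z) = mulThrough f2 P (γ.law.toFun' P z) := by
    intro P _ _ _ _ z
    have e2 : ∀ w : P ⊗[R] C, mulThrough f2 P w = Algebra.TensorProduct.rid R R P (π.toLinearMap.lTensor P w) := by
      intro w
      induction w using TensorProduct.induction_on with
      | zero => simp
      | tmul p c => simp [mulThrough, f2, Algebra.smul_def, ← IsScalarTower.algebraMap_apply, mul_comm]
      | add z w hz hw => simp only [map_add, hz, hw]
    have e1 : ∀ w : P ⊗[R] C, mulThrough f1 P w =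
        Algebra.TensorProduct.rid Q Q P (π'.toLinearMap.lTensor P (PolLaw.bcAlong θ.toLinearMap P w)) := by
      intro w
      induction w using TensorProduct.induction_on with
      | zero => simp
      | tmul p c => simp [mulThrough, f1, bcAlong_tmul, Algebra.smul_def, mul_comm]
      | add z w hz hw => simp only [map_add, hz, hw]
    have n2 : π.toLinearMap.lTensor P (γ.law.toFun' P z) = Algebra.norm P z ⊗ₜ[R] (1 : R) := by
      have := congrArg (fun F : PolLaw.MulLaw R R' R d => F.law.toFun' P z) hπ
      simp only [PolLaw.normLaw_apply] at this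
      exact this
    have n1 : ∀ y : P ⊗[Q] Q', π'.toLinearMap.lTensor P (γ'.law.toFun' P y) = Algebra.norm P y ⊗ₜ[Q] (1 : Q) := by
      intro y
      have := congrArg (fun F : PolLaw.MulLaw Q Q' Q d => F.law.toFun' P y) hπ'
      simp only [PolLaw.normLaw_apply] at this
      exact this
    rw [e1, e2, ← hθ P z, n1, n2, norm_bcAlong]
    simp
  have hlaw : PolLaw.postcomp f1.toLinearMap γ.law = PolLaw.postcomp f2.toLinearMap γ.law := by
    ext S _ _ x
    show f1.toLinearMap.lTensor S (γ.law.toFun' S x) = f2.toLinearMap.lTensor S (γ.law.toFun' S x)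
    let j : S →ₐ[R] Q ⊗[R] S := Algebra.TensorProduct.includeRight
    have hj : ∀ (f : C →ₐ[R] Q) (w : S ⊗[R] C), mulThrough f (Q ⊗[R] S) (j.toLinearMap.rTensor C w) =
        TensorProduct.comm R S Q (f.toLinearMap.lTensor S w) := by
      intro f w
      induction w using TensorProduct.induction_on with
      | zero => simp
      | tmul s c => simp [mulThrough, j]
      | add z w hz hw => simp only [map_add, hz, hw]
    refine (TensorProduct.comm R S Q).injective ?_
    rw [← hj f1, ← hj f2]
    have := congrFun (γ.law.isCompat' j) x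
    simp only [Function.comp_apply] at this
    rw [this]
    exact key _ _
  obtain ⟨f, -, huniq⟩ := hγ Q (PolLaw.MulLaw.postcomp f2 γ)
  have h1 := huniq f1 hlaw
  have h2 := huniq f2 rfl
  exact fun c => DFunLike.congr_fun (h1.trans h2.symm) c

end Groth.Agent.PolLawBCLib
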